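import Cfsg.Agent.H704.EnumP
import Cfsg.Agent.H704.LowDegree

/-!
# Some numbers which are not degrees of symmetric groups (helper292)
-/

set_option autoImplicit false

namespace Cfsg.Agent.H292.DS

open Cfsg.Agent.H704

/-- the kernel computation: `d` is not a degree of `S_n`, `r` a prime not dividing `d` -/
def ok (d n r : ℕ) : Bool :=
  goP (n - r) (fun H => !(Nat.beq (Nat.div n.factorial H) d)) (n + 1) n 1 [] 1

/-- the kernel computation: `d` is not a degree of `S_n` -/
def ok0 (d n : ℕ) : Bool :=
  go (fun _ H => !(Nat.beq (Nat.div n.factorial H) d)) (n + 1) n 1 [] 1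

theorem not_isDeg0 {d n : ℕ} (h : ok0 d n = true) : ¬ IsDeg n d := by
  intro hd
  have h1 := check_of_isDeg (chk := fun x => !(Nat.beq x d)) h hd
  simp at h1

theorem not_isDeg {d n r : ℕ} (hr : r.Prime) (hrn : r ≤ n) (hrd : ¬ r ∣ d) (h : ok d n r = true) : ¬ IsDeg n d := by
  intro hd
  have h1 := check_of_isDegP (chk := fun x => !(Nat.beq x d)) hr hrn (Nat.add_sub_cancel' hrn).symm h hd hrd
  simp at h1

theorem no_782 {n : ℕ} (h5 : 5 ≤ n) (hn : n ≤ 41) : ¬ IsDeg n 782 := by
  interval_cases n
  · exact not_isDeg (r := 5) (by norm_num) (by norm_num) (by norm_num) (by decide +kernel)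
  · exact not_isDeg (r := 5) (by norm_num) (by norm_num) (by norm_num) (by decide +kernel)
  · exact not_isDeg (r := 7) (by norm_num) (by norm_num) (by norm_num) (by decide +kernel)
  · exact not_isDeg (r := 7) (by norm_num) (by norm_num) (by norm_num) (by decide +kernel)
  · exact not_isDeg (r := 7) (by norm_num) (by norm_num) (by norm_num) (by decide +kernel)
  · exact not_isDeg (r := 7) (by norm_num) (by norm_num) (by norm_num) (by decide +kernel)
  · exact not_isDeg (r := 11) (by norm_num) (by norm_num) (by norm_num) (by decide +kernel)
  · exact not_isDeg (r := 11) (by norm_num) (by norm_num) (by norm_num) (by decide +kernel)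
  · exact not_isDeg (r := 13) (by norm_num) (by norm_num) (by norm_num) (by decide +kernel)
  · exact not_isDeg (r := 13) (by norm_num) (by norm_num) (by norm_num) (by decide +kernel)
  · exact not_isDeg (r := 13) (by norm_num) (by norm_num) (by norm_num) (by decide +kernel)
  · exact not_isDeg (r := 13) (by norm_num) (by norm_num) (by norm_num) (by decide +kernel)
  · exact not_isDeg (r := 13) (by norm_num) (by norm_num) (by norm_num) (by decide +kernel)
  · exact not_isDeg (r := 13) (by norm_num) (by norm_num) (by norm_num) (by decide +kernel)
  · exact not_isDeg (r := 19) (by norm_num) (by norm_num) (by norm_num) (by decide +kernel)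
  · exact not_isDeg (r := 19) (by norm_num) (by norm_num) (by norm_num) (by decide +kernel)
  · exact not_isDeg (r := 19) (by norm_num) (by norm_num) (by norm_num) (by decide +kernel)
  · exact not_isDeg (r := 19) (by norm_num) (by norm_num) (by norm_num) (by decide +kernel)
  · exact not_isDeg (r := 19) (by norm_num) (by norm_num) (by norm_num) (by decide +kernel)
  · exact not_isDeg (r := 19) (by norm_num) (by norm_num) (by norm_num) (by decide +kernel)
  · exact not_isDeg (r := 19) (by norm_num) (by norm_num) (by norm_num) (by decide +kernel)
  · exact not_isDeg (r := 19) (by norm_num) (by norm_num) (by norm_num) (by decide +kernel)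
  · exact not_isDeg (r := 19) (by norm_num) (by norm_num) (by norm_num) (by decide +kernel)
  · exact not_isDeg (r := 19) (by norm_num) (by norm_num) (by norm_num) (by decide +kernel)
  · exact not_isDeg (r := 29) (by norm_num) (by norm_num) (by norm_num) (by decide +kernel)
  · exact not_isDeg (r := 29) (by norm_num) (by norm_num) (by norm_num) (by decide +kernel)
  · exact not_isDeg (r := 31) (by norm_num) (by norm_num) (by norm_num) (by decide +kernel)
  · exact not_isDeg (r := 31) (by norm_num) (by norm_num) (by norm_num) (by decide +kernel)
  · exact not_isDeg (r := 31) (by norm_num) (by norm_num) (by norm_num) (by decide +kernel)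
  · exact not_isDeg (r := 31) (by norm_num) (by norm_num) (by norm_num) (by decide +kernel)
  · exact not_isDeg (r := 31) (by norm_num) (by norm_num) (by norm_num) (by decide +kernel)
  · exact not_isDeg (r := 31) (by norm_num) (by norm_num) (by norm_num) (by decide +kernel)
  · exact not_isDeg (r := 37) (by norm_num) (by norm_num) (by norm_num) (by decide +kernel)
  · exact not_isDeg (r := 37) (by norm_num) (by norm_num) (by norm_num) (by decide +kernel)
  · exact not_isDeg (r := 37) (by norm_num) (by norm_num) (by norm_num) (by decide +kernel)
  · exact not_isDeg (r := 37) (by norm_num) (by norm_num) (by norm_num) (by decide +kernel)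
  · exact not_isDeg (r := 41) (by norm_num) (by norm_num) (by norm_num) (by decide +kernel)

theorem no_780 {n : ℕ} (h5 : 5 ≤ n) (hn : n ≤ 40) : ¬ IsDeg n 780 := by
  interval_cases n
  · exact not_isDeg0 (by decide +kernel)
  · exact not_isDeg0 (by decide +kernel)
  · exact not_isDeg (r := 7) (by norm_num) (by norm_num) (by norm_num) (by decide +kernel)
  · exact not_isDeg (r := 7) (by norm_num) (by norm_num) (by norm_num) (by decide +kernel)
  · exact not_isDeg (r := 7) (by norm_num) (by norm_num) (by norm_num) (by decide +kernel)
  · exact not_isDeg (r := 7) (by norm_num) (by norm_num) (by norm_num) (by decide +kernel)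
  · exact not_isDeg (r := 11) (by norm_num) (by norm_num) (by norm_num) (by decide +kernel)
  · exact not_isDeg (r := 11) (by norm_num) (by norm_num) (by norm_num) (by decide +kernel)
  · exact not_isDeg (r := 11) (by norm_num) (by norm_num) (by norm_num) (by decide +kernel)
  · exact not_isDeg (r := 11) (by norm_num) (by norm_num) (by norm_num) (by decide +kernel)
  · exact not_isDeg (r := 11) (by norm_num) (by norm_num) (by norm_num) (by decide +kernel)
  · exact not_isDeg (r := 11) (by norm_num) (by norm_num) (by norm_num) (by decide +kernel)
  · exact not_isDeg (r := 17) (by norm_num) (by norm_num) (by norm_num) (by decide +kernel)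
  · exact not_isDeg (r := 17) (by norm_num) (by norm_num) (by norm_num) (by decide +kernel)
  · exact not_isDeg (r := 19) (by norm_num) (by norm_num) (by norm_num) (by decide +kernel)
  · exact not_isDeg (r := 19) (by norm_num) (by norm_num) (by norm_num) (by decide +kernel)
  · exact not_isDeg (r := 19) (by norm_num) (by norm_num) (by norm_num) (by decide +kernel)
  · exact not_isDeg (r := 19) (by norm_num) (by norm_num) (by norm_num) (by decide +kernel)
  · exact not_isDeg (r := 23) (by norm_num) (by norm_num) (by norm_num) (by decide +kernel)
  · exact not_isDeg (r := 23) (by norm_num) (by norm_num) (by norm_num) (by decide +kernel)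
  · exact not_isDeg (r := 23) (by norm_num) (by norm_num) (by norm_num) (by decide +kernel)
  · exact not_isDeg (r := 23) (by norm_num) (by norm_num) (by norm_num) (by decide +kernel)
  · exact not_isDeg (r := 23) (by norm_num) (by norm_num) (by norm_num) (by decide +kernel)
  · exact not_isDeg (r := 23) (by norm_num) (by norm_num) (by norm_num) (by decide +kernel)
  · exact not_isDeg (r := 29) (by norm_num) (by norm_num) (by norm_num) (by decide +kernel)
  · exact not_isDeg (r := 29) (by norm_num) (by norm_num) (by norm_num) (by decide +kernel)
  · exact not_isDeg (r := 31) (by norm_num) (by norm_num) (by norm_num) (by decide +kernel)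
  · exact not_isDeg (r := 31) (by norm_num) (by norm_num) (by norm_num) (by decide +kernel)
  · exact not_isDeg (r := 31) (by norm_num) (by norm_num) (by norm_num) (by decide +kernel)
  · exact not_isDeg (r := 31) (by norm_num) (by norm_num) (by norm_num) (by decide +kernel)
  · exact not_isDeg (r := 31) (by norm_num) (by norm_num) (by norm_num) (by decide +kernel)
  · exact not_isDeg (r := 31) (by norm_num) (by norm_num) (by norm_num) (by decide +kernel)
  · exact not_isDeg (r := 37) (by norm_num) (by norm_num) (by norm_num) (by decide +kernel)
  · exact not_isDeg (r := 37) (by norm_num) (by norm_num) (by norm_num) (by decide +kernel)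
  · exact not_isDeg (r := 37) (by norm_num) (by norm_num) (by norm_num) (by decide +kernel)
  · exact not_isDeg (r := 37) (by norm_num) (by norm_num) (by norm_num) (by decide +kernel)

theorem no_1560 {n : ℕ} (h5 : 5 ≤ n) (hn : n ≤ 57) : ¬ IsDeg n 1560 := by
  interval_cases n
  · exact not_isDeg0 (by decide +kernel)
  · exact not_isDeg0 (by decide +kernel)
  · exact not_isDeg (r := 7) (by norm_num) (by norm_num) (by norm_num) (by decide +kernel)
  · exact not_isDeg (r := 7) (by norm_num) (by norm_num) (by norm_num) (by decide +kernel)
  · exact not_isDeg (r := 7) (by norm_num) (by norm_num) (by norm_num) (by decide +kernel)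
  · exact not_isDeg (r := 7) (by norm_num) (by norm_num) (by norm_num) (by decide +kernel)
  · exact not_isDeg (r := 11) (by norm_num) (by norm_num) (by norm_num) (by decide +kernel)
  · exact not_isDeg (r := 11) (by norm_num) (by norm_num) (by norm_num) (by decide +kernel)
  · exact not_isDeg (r := 11) (by norm_num) (by norm_num) (by norm_num) (by decide +kernel)
  · exact not_isDeg (r := 11) (by norm_num) (by norm_num) (by norm_num) (by decide +kernel)
  · exact not_isDeg (r := 11) (by norm_num) (by norm_num) (by norm_num) (by decide +kernel)
  · exact not_isDeg (r := 11) (by norm_num) (by norm_num) (by norm_num) (by decide +kernel)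
  · exact not_isDeg (r := 17) (by norm_num) (by norm_num) (by norm_num) (by decide +kernel)
  · exact not_isDeg (r := 17) (by norm_num) (by norm_num) (by norm_num) (by decide +kernel)
  · exact not_isDeg (r := 19) (by norm_num) (by norm_num) (by norm_num) (by decide +kernel)
  · exact not_isDeg (r := 19) (by norm_num) (by norm_num) (by norm_num) (by decide +kernel)
  · exact not_isDeg (r := 19) (by norm_num) (by norm_num) (by norm_num) (by decide +kernel)
  · exact not_isDeg (r := 19) (by norm_num) (by norm_num) (by norm_num) (by decide +kernel)
  · exact not_isDeg (r := 23) (by norm_num) (by norm_num) (by norm_num) (by decide +kernel)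
  · exact not_isDeg (r := 23) (by norm_num) (by norm_num) (by norm_num) (by decide +kernel)
  · exact not_isDeg (r := 23) (by norm_num) (by norm_num) (by norm_num) (by decide +kernel)
  · exact not_isDeg (r := 23) (by norm_num) (by norm_num) (by norm_num) (by decide +kernel)
  · exact not_isDeg (r := 23) (by norm_num) (by norm_num) (by norm_num) (by decide +kernel)
  · exact not_isDeg (r := 23) (by norm_num) (by norm_num) (by norm_num) (by decide +kernel)
  · exact not_isDeg (r := 29) (by norm_num) (by norm_num) (by norm_num) (by decide +kernel)
  · exact not_isDeg (r := 29) (by norm_num) (by norm_num) (by norm_num) (by decide +kernel)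
  · exact not_isDeg (r := 31) (by norm_num) (by norm_num) (by norm_num) (by decide +kernel)
  · exact not_isDeg (r := 31) (by norm_num) (by norm_num) (by norm_num) (by decide +kernel)
  · exact not_isDeg (r := 31) (by norm_num) (by norm_num) (by norm_num) (by decide +kernel)
  · exact not_isDeg (r := 31) (by norm_num) (by norm_num) (by norm_num) (by decide +kernel)
  · exact not_isDeg (r := 31) (by norm_num) (by norm_num) (by norm_num) (by decide +kernel)
  · exact not_isDeg (r := 31) (by norm_num) (by norm_num) (by norm_num) (by decide +kernel)
  · exact not_isDeg (r := 37) (by norm_num) (by norm_num) (by norm_num) (by decide +kernel)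
  · exact not_isDeg (r := 37) (by norm_num) (by norm_num) (by norm_num) (by decide +kernel)
  · exact not_isDeg (r := 37) (by norm_num) (by norm_num) (by norm_num) (by decide +kernel)
  · exact not_isDeg (r := 37) (by norm_num) (by norm_num) (by norm_num) (by decide +kernel)
  · exact not_isDeg (r := 41) (by norm_num) (by norm_num) (by norm_num) (by decide +kernel)
  · exact not_isDeg (r := 41) (by norm_num) (by norm_num) (by norm_num) (by decide +kernel)
  · exact not_isDeg (r := 43) (by norm_num) (by norm_num) (by norm_num) (by decide +kernel)
  · exact not_isDeg (r := 43) (by norm_num) (by norm_num) (by norm_num) (by decide +kernel)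
  · exact not_isDeg (r := 43) (by norm_num) (by norm_num) (by norm_num) (by decide +kernel)
  · exact not_isDeg (r := 43) (by norm_num) (by norm_num) (by norm_num) (by decide +kernel)
  · exact not_isDeg (r := 47) (by norm_num) (by norm_num) (by norm_num) (by decide +kernel)
  · exact not_isDeg (r := 47) (by norm_num) (by norm_num) (by norm_num) (by decide +kernel)
  · exact not_isDeg (r := 47) (by norm_num) (by norm_num) (by norm_num) (by decide +kernel)
  · exact not_isDeg (r := 47) (by norm_num) (by norm_num) (by norm_num) (by decide +kernel)
  · exact not_isDeg (r := 47) (by norm_num) (by norm_num) (by norm_num) (by decide +kernel)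
  · exact not_isDeg (r := 47) (by norm_num) (by norm_num) (by norm_num) (by decide +kernel)
  · exact not_isDeg (r := 53) (by norm_num) (by norm_num) (by norm_num) (by decide +kernel)
  · exact not_isDeg (r := 53) (by norm_num) (by norm_num) (by norm_num) (by decide +kernel)
  · exact not_isDeg (r := 53) (by norm_num) (by norm_num) (by norm_num) (by decide +kernel)
  · exact not_isDeg (r := 53) (by norm_num) (by norm_num) (by norm_num) (by decide +kernel)
  · exact not_isDeg (r := 53) (by norm_num) (by norm_num) (by norm_num) (by decide +kernel)

theorem no_1001 {n : ℕ} (h5 : 41 ≤ n) (hn : n ≤ 41) : ¬ IsDeg n 1001 := by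
  interval_cases n
  · exact not_isDeg (r := 41) (by norm_num) (by norm_num) (by norm_num) (by decide +kernel)

theorem no_2002 {n : ℕ} (h5 : 41 ≤ n) (hn : n ≤ 41) : ¬ IsDeg n 2002 := by
  interval_cases n
  · exact not_isDeg (r := 41) (by norm_num) (by norm_num) (by norm_num) (by decide +kernel)

end Cfsg.Agent.H292.DS
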