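import Cfsg.Agent.H292.DS.NoDeg
import Cfsg.Agent.H704.DegOK
import Cfsg.Agent.H672.SporIM.RankRows

/-!
# `Fi₂₃` and `Suz` among the groups whose degrees are degrees of `S_n` (helper292)
-/

set_option autoImplicit false

namespace Cfsg.Agent.H292.DS

open Cfsg Cfsg.Agent.H704

universe u

theorem apply_one {G : Type*} [Group G] [Finite G] {d : ℕ} (h : H672.SporIM.HasDeg G d) :
    ∃ χ : G → ℂ, IsIrrCharacter G χ ∧ χ 1 = (d : ℂ) := by
  obtain ⟨χ, hχ⟩ := h
  obtain ⟨m, hm, h1⟩ := Characters.Core.isIrr_apply_one χ.2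
  have h2 : charDegree (χ : G → ℂ) = m := H670.PSing.charDegree_eq_of h1
  refine ⟨χ, χ.2, ?_⟩
  rw [h1, ← h2, hχ]

theorem isDeg_of_hasDeg {n : ℕ} {G : Type*} [Group G] [Finite G]
    (hd : ∀ ψ : G → ℂ, IsIrrCharacter G ψ → ∃ d : ℕ, IsDeg n d ∧ ψ 1 = (d : ℂ)) {d : ℕ}
    (h : H672.SporIM.HasDeg G d) : IsDeg n d := by
  obtain ⟨χ, hχ, h1⟩ := apply_one h
  obtain ⟨e, he, h2⟩ := hd χ hχ
  have h3 : e = d := by exact_mod_cast h2.symm.trans h1
  rwa [← h3]

theorem isDeg_or_of_hasDeg {n : ℕ} {G : Type*} [Group G] [Finite G] (hd : DegOK n G) {d : ℕ}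
    (h : H672.SporIM.HasDeg G d) : IsDeg n d ∨ IsDeg n (2 * d) := by
  obtain ⟨χ, hχ, h1⟩ := apply_one h
  obtain ⟨e, he, h2 | h2⟩ := hd χ hχ
  · have h3 : e = d := by exact_mod_cast h2.trans h1
    left; rwa [← h3]
  · have h3 : e = 2 * d := by
      rw [h1] at h2
      exact_mod_cast h2
    right; rwa [← h3]

/-- **`Fi₂₃`** (all the degrees of `K` are degrees of `S_n`). -/
theorem fi23 {K : Type u} [Group K] [Finite K] (h : Spor.IsoFi23 K) {n : ℕ} (hn : 5 ≤ n)
    (hd : ∀ ψ : K → ℂ, IsIrrCharacter K ψ → ∃ d : ℕ, IsDeg n d ∧ ψ 1 = (d : ℂ)) : False := by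
  obtain ⟨h1, h2⟩ := H672.SporIM.fi23 h
  have d1 := isDeg_of_hasDeg hd h1
  have d2 := isDeg_of_hasDeg hd h2
  by_cases h41 : n ≤ 41
  · exact no_782 hn h41 d2
  · have e1 := low_degree (by omega) d1
    have e2 := low_degree (by omega) d2
    have h3 : 42 * 39 ≤ n * (n - 3) := Nat.mul_le_mul (by omega) (by omega)
    have h4 : n = 783 := by omega
    subst h4
    omega

/-- **`Suz`** (the degrees of `K` are degrees of `S_n`, or half of them). -/
theorem suz {K : Type u} [Group K] [Finite K] (h : Spor.IsoSuz K) {n : ℕ} (hn : 5 ≤ n) (hd : DegOK n K) : False := by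
  obtain ⟨h1, h2⟩ := H672.SporIM.suz h
  have d1 := isDeg_or_of_hasDeg hd h1
  have d2 := isDeg_or_of_hasDeg hd h2
  have key : n = 41 ∨ 58 ≤ n := by
    by_contra hcon
    rcases d2 with d2 | d2
    · by_cases h40 : n ≤ 40
      · exact no_780 hn h40 d2
      · have e := low_degree (by omega) d2
        have h3 : 42 * 39 ≤ n * (n - 3) := Nat.mul_le_mul (by omega) (by omega)
        omega
    · exact no_1560 hn (by omega) d2
  rcases key with rfl | h58
  · rcases d1 with d1 | d1
    · exact no_1001 le_rfl le_rfl d1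
    · exact no_2002 le_rfl le_rfl d1
  · have h3 : 58 * 55 ≤ n * (n - 3) := Nat.mul_le_mul (by omega) (by omega)
    have h4 : n = 781 ∨ n = 1561 := by
      rcases d2 with d2 | d2
      · have e := low_degree (by omega) d2
        omega
      · have e := low_degree (by omega) d2
        omega
    rcases d1 with d1 | d1
    · have e := low_degree (by omega) d1
      rcases h4 with rfl | rfl <;> omega
    · have e := low_degree (by omega) d1
      rcases h4 with rfl | rfl <;> omega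

end Cfsg.Agent.H292.DS
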